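import Cfsg.Agent.Comp.Ru.Main
import Cfsg.Agent.Comp.Trans

set_option autoImplicit false
set_option maxRecDepth 100000

namespace Cfsg.Agent.Comp.Ru
open Cfsg.Agent.Comp

theorem st0 {bs : List ℕ} {m : ℕ} (h : BaseGe (genW (sig T) lowW1) bs m) :
    BaseGe (genW (sig T) (letters 7)) (0 :: bs) (4060 * m) :=
  BaseGe.step (W' := lowW1) (b := 0) (n := 4060) ok (le_of_subOK eqs (show subOK (letters 7) lowW1 E = true by decide +kernel)) (by decide +kernel)
    (le_ncard_of_ivl (a := 0) ok (by norm_num) (show Nat.beq (grow T (letters 7) [6, 0, 2, 3, 5, 0, 6, 2, 3, 0, 5, 6, 2, 3, 0, 5, 3] (pt (nat_lit 0))) (ivl (nat_lit 0) (nat_lit 4060)) = true by decide +kernel)) h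

theorem st1 {bs : List ℕ} {m : ℕ} (h : BaseGe (genW (sig T) lowW2) bs m) :
    BaseGe (genW (sig T) lowW1) (1 :: bs) (1755 * m) :=
  BaseGe.step (W' := lowW2) (b := 1) (n := 1755) ok (le_of_subOK eqs (show subOK lowW1 lowW2 E = true by decide +kernel)) (by decide +kernel)
    (le_ncard_of_ivl (a := 1) ok (by norm_num) (show Nat.beq (grow T lowW1 [5, 0, 2, 3, 0, 5, 2, 3, 0, 5, 2, 3, 0, 5, 2, 3] (pt (nat_lit 1))) (ivl (nat_lit 1) (nat_lit 1755)) = true by decide +kernel)) h

theorem st2 {bs : List ℕ} {m : ℕ} (h : BaseGe (genW (sig T) lowW3) bs m) :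
    BaseGe (genW (sig T) lowW2) (1977 :: bs) (1024 * m) :=
  BaseGe.step (W' := lowW3) (b := 1977) (n := 1024) ok (le_of_subOK eqs (show subOK lowW2 lowW3 E = true by decide +kernel)) (by decide +kernel)
    (le_ncard_of_orbGe ok (by norm_num) (show orbGe (nat_lit 4060) (nat_lit 12) T lowW2 [3, 0, 2, 3, 0, 3, 2, 0, 3, 0, 3, 2, 0, 3, 0, 3, 0] (nat_lit 1977) (nat_lit 1024) = true by decide +kernel)) h

theorem st3 {bs : List ℕ} {m : ℕ} (h : BaseGe (genW (sig T) lowW4) bs m) :
    BaseGe (genW (sig T) lowW3) (1580 :: bs) (5 * m) :=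
  BaseGe.step (W' := lowW4) (b := 1580) (n := 5) ok (le_of_subOK eqs (show subOK lowW3 lowW4 E = true by decide +kernel)) (by decide +kernel)
    (le_ncard_of_orbGe ok (by norm_num) (show orbGe (nat_lit 4060) (nat_lit 12) T lowW3 [2, 0, 0, 0] (nat_lit 1580) (nat_lit 5) = true by decide +kernel)) h

theorem st4 {bs : List ℕ} {m : ℕ} (h : BaseGe (genW (sig T) []) bs m) :
    BaseGe (genW (sig T) lowW4) (1753 :: bs) (4 * m) :=
  BaseGe.step (W' := []) (b := 1753) (n := 4) ok (le_of_subOK eqs (show subOK lowW4 [] E = true by decide +kernel)) (by decide +kernel)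
    (le_ncard_of_orbGe ok (by norm_num) (show orbGe (nat_lit 4060) (nat_lit 12) T lowW4 [0, 0, 0] (nat_lit 1753) (nat_lit 4) = true by decide +kernel)) h

theorem cardR : Nat.card phi.range = 145926144000 := by rw [rep.range, rep.card_gen card.2.2, card.2.1]

theorem base : IsBase phi.range [0, 1, 1977, 1580, 1753] :=
  BaseGe.isBase (st0 (st1 (st2 (st3 (st4 (BaseGe.nil _)))))) rep.range.ge (by rw [cardR]) (by norm_num)


end Cfsg.Agent.Comp.Ru
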